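import Cfsg.Agent.H37.HT.Fd
import Cfsg.Agent.H362.HT.Over
import Cfsg.Agent.H112.HT.Ind
import Cfsg.Agent.H672.Main

/-!
# S4933, part (O): a character moved by every Sylow subgroup (helper352)

* `degree_of_cyclic` : `H ⊴ P` abelian, `P / H` cyclic, `C_P(H) ≤ H`: `|P : H|` is a degree of the `p`-group `P`;
* `good_of_orbit`    : `ψ ∈ B₀(N)` of degree prime to `p`, moved by every Sylow `p`-subgroup: `GoodOn p a M N`.
-/

set_option autoImplicit false
set_option linter.unusedSectionVars false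
set_option linter.style.haveILetI false

open Cfsg Subgroup

namespace Cfsg.Agent.H352.HT

open Cfsg.Agent.H316.HT Cfsg.Agent.H37.HT

universe u

theorem mem_zpowers_of_order {Q : Type*} [Group Q] [Finite Q] [IsCyclic Q] {p : ℕ} (hp : p.Prime) {z s : Q}
    (hz : orderOf z = p) (hs : s ^ p = 1) : s ∈ zpowers z := by
  classical
  have := Fintype.ofFinite Q
  have h1 : ((zpowers z : Set Q).toFinset) ⊆ Finset.univ.filter fun x : Q => x ^ p = 1 := by
    intro x hx
    rw [Set.mem_toFinset] at hx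
    obtain ⟨k, rfl⟩ := hx
    rw [Finset.mem_filter]
    refine ⟨Finset.mem_univ _, ?_⟩
    show (z ^ k) ^ p = 1
    rw [← zpow_natCast, ← zpow_mul, mul_comm, zpow_mul, zpow_natCast, ← hz, pow_orderOf_eq_one, one_zpow]
  have h2 : (Finset.univ.filter fun x : Q => x ^ p = 1).card ≤ ((zpowers z : Set Q).toFinset).card := by
    refine (IsCyclic.card_pow_eq_one_le hp.pos).trans ?_
    rw [Set.toFinset_card, ← Nat.card_eq_fintype_card]
    have h3 : Nat.card (zpowers z) = p := by rw [Nat.card_zpowers, hz]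
    exact h3.ge
  have h3 := Finset.eq_of_subset_of_card_le h1 h2
  have h4 : s ∈ Finset.univ.filter fun x : Q => x ^ p = 1 := Finset.mem_filter.2 ⟨Finset.mem_univ _, hs⟩
  rw [← h3, Set.mem_toFinset] at h4
  exact h4

/-- **a degree** -/
theorem degree_of_cyclic {p : ℕ} [hp : Fact p.Prime] {P : Type u} [Group P] [Finite P] (hP : IsPGroup p P)
    (H : Subgroup P) [hH : H.Normal] (hab : ∀ x ∈ H, ∀ y ∈ H, x * y = y * x)
    (hcyc : ∃ t : P, ∀ x : P, ∃ k : ℕ, x * t ^ k ∈ H) (hC : ∀ x : P, (∀ y ∈ H, x * y = y * x) → x ∈ H) :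
    ∃ φ : IrrCharacter P, charDegree (φ : P → ℂ) = H.index := by
  classical
  have := Fintype.ofFinite P
  by_cases hHt : H = ⊤
  · refine ⟨⟨fun _ => 1, Blocks.Basic.isIrrCharacter_one⟩, ?_⟩
    rw [hHt, index_top]
    exact H672.charDegree_of_eq (by simp)
  have hcyc' : IsCyclic (P ⧸ H) := by
    obtain ⟨t, ht⟩ := hcyc
    refine ⟨⟨(t : P ⧸ H), fun x => ?_⟩⟩
    obtain ⟨x, rfl⟩ := QuotientGroup.mk_surjective x
    obtain ⟨k, hk⟩ := ht x
    have h1 : (x : P ⧸ H) * (t : P ⧸ H) ^ k = 1 := by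
      rw [← QuotientGroup.mk_pow, ← QuotientGroup.mk_mul]
      exact (QuotientGroup.eq_one_iff _).2 hk
    rw [eq_inv_of_mul_eq_one_left h1]
    exact inv_mem (npow_mem_zpowers _ _)
  have hQp : IsPGroup p (P ⧸ H) := hP.to_quotient H
  have hpQ : p ∣ Nat.card (P ⧸ H) := by
    obtain ⟨n, hn⟩ := (IsPGroup.iff_card).1 hQp
    have h1 : n ≠ 0 := by
      rintro rfl
      rw [pow_zero] at hn
      apply hHt
      rw [← index_eq_one]
      exact hn
    rw [hn]
    exact dvd_pow_self p h1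
  obtain ⟨s', hs'⟩ := exists_prime_orderOf_dvd_card' p hpQ
  obtain ⟨s, rfl⟩ := QuotientGroup.mk_surjective s'
  have hsH : s ∉ H := by
    intro h1
    rw [(QuotientGroup.eq_one_iff s).2 h1, orderOf_one] at hs'
    exact hp.out.one_lt.ne hs'
  -- `s` moves an element and a character of `H`
  obtain ⟨y, hyH, hy⟩ : ∃ y ∈ H, s * y ≠ y * s := by
    by_contra hcon
    push Not at hcon
    exact hsH (hC s hcon)
  let _ : CommGroup H := { (inferInstance : Group H) with mul_comm := fun a b => Subtype.ext (hab a a.2 b b.2) }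
  obtain ⟨l, hl⟩ : ∃ l : H →* ℂˣ, l ⟨s * y * s⁻¹, hH.conj_mem y hyH s⟩ ≠ l ⟨y, hyH⟩ := by
    have h1 : (⟨s * y * s⁻¹, hH.conj_mem y hyH s⟩ : H) / ⟨y, hyH⟩ ≠ 1 := by
      intro h2
      rw [div_eq_one] at h2
      exact hy (mul_inv_eq_iff_eq_mul.1 (congrArg Subtype.val h2))
    obtain ⟨l, hl⟩ := CommGroup.exists_apply_ne_one_of_hasEnoughRootsOfUnity H ℂ h1
    refine ⟨l, fun h2 => hl ?_⟩
    rw [map_div, h2, div_self']
  have hirr : IsIrrCharacter P (indFun H (fun x => (l x : ℂ))) := by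
    refine OddOrderCharacters.PF9.MackeyIrr.isIrr_ind H l fun g hg => ?_
    by_contra hgH
    -- the stabilizer
    obtain ⟨I, hI⟩ : ∃ I : Subgroup P, ∀ g, g ∈ I ↔ ∀ n : H, (l ⟨g * n * g⁻¹, hH.conj_mem (n : P) n.2 g⟩ : ℂ) = l n :=
      ⟨H672.inertia H (fun x => (l x : ℂ)), fun g => H672.mem_inertia_iff⟩
    have hgI : g ∈ I := (hI g).2 fun n => by rw [hg n ⟨g * n * g⁻¹, hH.conj_mem (n : P) n.2 g⟩ rfl]
    have hHI : H ≤ I := by
      intro x hx
      refine (hI x).2 fun n => ?_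
      have h1 : (⟨x * n * x⁻¹, hH.conj_mem (n : P) n.2 x⟩ : H) = n := by
        apply Subtype.ext
        show x * n * x⁻¹ = n
        rw [hab x hx n n.2, mul_inv_cancel_right]
      rw [h1]
    have hsI : s ∉ I := by
      intro h1
      exact hl (Units.ext ((hI s).1 h1 ⟨y, hyH⟩))
    -- a power of `g` of order `p`
    obtain ⟨k, hk⟩ := (IsPGroup.iff_orderOf).1 hQp (g : P ⧸ H)
    have hg1 : (g : P ⧸ H) ≠ 1 := fun h => hgH ((QuotientGroup.eq_one_iff g).1 h)
    have hk0 : k ≠ 0 := by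
      rintro rfl
      rw [pow_zero, orderOf_eq_one_iff] at hk
      exact hg1 hk
    obtain ⟨j, rfl⟩ := Nat.exists_eq_succ_of_ne_zero hk0
    have hz : orderOf ((g : P ⧸ H) ^ p ^ j) = p := by
      rw [orderOf_pow, hk, pow_succ, Nat.gcd_eq_right (Dvd.intro _ rfl), Nat.mul_div_cancel_left _ (pow_pos hp.out.pos j)]
    have h1 := mem_zpowers_of_order hp.out hz (s := (s : P ⧸ H)) (by rw [← hs', pow_orderOf_eq_one])
    obtain ⟨m, hm⟩ := h1
    apply hsI
    have h2 : ((g ^ p ^ j) ^ m)⁻¹ * s ∈ H := by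
      rw [← QuotientGroup.eq]
      rw [QuotientGroup.mk_zpow, QuotientGroup.mk_pow]
      exact hm
    have h3 := I.mul_mem (I.zpow_mem (I.pow_mem hgI (p ^ j)) m) (hHI h2)
    rwa [mul_inv_cancel_left] at h3
  refine ⟨⟨_, hirr⟩, ?_⟩
  refine H672.charDegree_of_eq ?_
  show indFun H (fun x => (l x : ℂ)) 1 = _
  rw [OddOrderCharacters.IndRes.indFun_apply_one, map_one, Units.val_one, mul_one]

/-- a subgroup of index prime to `p` contains a conjugate of the Sylow subgroup -/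
theorem exists_conj_mem {p : ℕ} [hp : Fact p.Prime] {A : Type u} [Group A] [Finite A] (P : Sylow p A)
    {I : Subgroup A} (hI : ¬ p ∣ I.index) : ∃ g : A, ∀ x ∈ (P : Subgroup A), g * x * g⁻¹ ∈ I := by
  classical
  obtain ⟨Q⟩ : Nonempty (Sylow p I) := inferInstance
  have hQ : IsPGroup p ↥((Q : Subgroup I).map I.subtype) := Q.2.map _
  have hidx : ¬ p ∣ ((Q : Subgroup I).map I.subtype).index := by
    rw [index_map_subtype]
    intro h
    rcases (hp.out.dvd_mul).1 h with h1 | h1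
    · exact Q.not_dvd_index h1
    · exact hI h1
  obtain ⟨g, hg⟩ := MulAction.exists_smul_eq A P (hQ.toSylow hidx)
  refine ⟨g, fun x hx => ?_⟩
  have h1 : g * x * g⁻¹ ∈ ((g • P : Sylow p A) : Subgroup A) := by
    rw [Sylow.coe_subgroup_smul]
    exact ⟨x, hx, rfl⟩
  rw [hg] at h1
  obtain ⟨y, -, hy⟩ := h1
  rw [← hy]
  exact y.2

theorem mem_comp_equiv {M : Ideal AlgInt} {H K : Type*} [Group H] [Group K] (e : H ≃* K) {χ : K → ℂ}
    (hχ : IsIrrCharacter K χ) (hχ' : IsIrrCharacter H (χ ∘ e)) :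
    (⟨χ ∘ e, hχ'⟩ : IrrCharacter H) ∈ principalBlock M H ↔
      (⟨χ, hχ⟩ : IrrCharacter K) ∈ principalBlock M K := by
  have h1 : ∀ (ψ : K → ℂ) (h : H), centralChar (ψ ∘ e) h = centralChar ψ (e h) := fun ψ h =>
    Cfsg.Agent.Blocks.Covering.centralChar_comp_equiv e ψ h
  constructor
  · intro h g
    obtain ⟨g, rfl⟩ := e.surjective g
    have h2 := h g
    have h3 := h1 (fun _ => 1) g
    have h4 := h1 χ g
    show MemLocalIdeal M (centralChar (fun _ => 1) (e g) - centralChar χ (e g))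
    rw [← h3, ← h4]
    exact h2
  · intro h g
    have h2 := h (e g)
    have h3 := h1 (fun _ => 1) g
    have h4 := h1 χ g
    show MemLocalIdeal M (centralChar ((fun _ => 1) ∘ e) g - centralChar (χ ∘ e) g)
    rw [h3, h4]
    exact h2

/-- **a character of degree prime to `p` of the principal block moved by every Sylow subgroup** -/
theorem good_of_orbit {p : ℕ} [Fact p.Prime] {M : Ideal AlgInt} (hM : IsPModular p M) {A : Type u} [Group A] [Finite A]
    (N : Subgroup A) [N.Normal] (P : Sylow p A) {a : ℕ} (ha : 0 < a) (hcd : CD p a (P : Subgroup A))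
    (hab : ∀ x ∈ (P : Subgroup A), x ∈ N → ∀ y ∈ (P : Subgroup A), y ∈ N → x * y = y * x)
    (hcyc : ∃ t ∈ (P : Subgroup A), ∀ x ∈ (P : Subgroup A), ∃ k : ℕ, x * t ^ k ∈ N)
    (hC : ∀ x ∈ (P : Subgroup A), (∀ y ∈ (P : Subgroup A), y ∈ N → x * y = y * x) → x ∈ N)
    (ψ : IrrCharacter N) (hψ : ψ ∈ principalBlock M N) (hdeg : ¬ p ∣ charDegree (ψ : N → ℂ))
    (hmv : ∀ g : A, ∃ x ∈ (P : Subgroup A), ∃ n n' : N, (n' : A) = (g * x * g⁻¹) * n * (g * x * g⁻¹)⁻¹ ∧
      (ψ : N → ℂ) n' ≠ (ψ : N → ℂ) n) : GoodOn p a M N := by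
  classical
  have hpp : p.Prime := Fact.out
  have := Fintype.ofFinite A
  have hMp : M.IsPrime := Cfsg.Agent.Blocks.Local.isPrime_of_isPModular hM
  obtain ⟨K, hK⟩ : ∃ K : Subgroup A, K = N ⊔ (P : Subgroup A) := ⟨_, rfl⟩
  have hNK : N ≤ K := hK ▸ le_sup_left
  have hPK : (P : Subgroup A) ≤ K := hK ▸ le_sup_right
  have := Fintype.ofFinite K
  have := Fintype.ofFinite N
  have := Fintype.ofFinite (N.subgroupOf K)
  have hN' : (N.subgroupOf K).Normal := inferInstance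
  -- the character of `N.subgroupOf K`
  obtain ⟨e, he⟩ : ∃ e : N.subgroupOf K ≃* N, ∀ x, ((e x : N) : A) = ((x : K) : A) :=
    ⟨subgroupOfEquivOfLe hNK, fun x => rfl⟩
  have hψ'i : IsIrrCharacter (N.subgroupOf K) ((ψ : N → ℂ) ∘ e) :=
    Characters.Core.isIrr_comp e.toMonoidHom e.surjective ψ.2
  have hψ' : (⟨(ψ : N → ℂ) ∘ e, hψ'i⟩ : IrrCharacter (N.subgroupOf K)) ∈ principalBlock M (N.subgroupOf K) :=
    (mem_comp_equiv e ψ.2 hψ'i).2 hψ
  have hdeg' : charDegree ((ψ : N → ℂ) ∘ e) = charDegree (ψ : N → ℂ) := by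
    unfold charDegree
    rw [Function.comp_apply, map_one]
  -- the index
  obtain ⟨φ, hφ⟩ := degree_of_cyclic (p := p) P.2 (N.subgroupOf (P : Subgroup A))
    (fun x hx y hy => Subtype.ext (hab x x.2 hx y y.2 hy))
    (by
      obtain ⟨t, ht, h⟩ := hcyc
      refine ⟨⟨t, ht⟩, fun x => ?_⟩
      obtain ⟨k, hk⟩ := h x x.2
      exact ⟨k, hk⟩)
    (fun x hx => hC x x.2 fun y hy hyN => congrArg Subtype.val (hx ⟨y, hy⟩ hyN))
  have hidx : (N.subgroupOf K).index = (N.subgroupOf (P : Subgroup A)).index := by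
    show N.relIndex K = N.relIndex (P : Subgroup A)
    rw [hK, relIndex_sup_left]
  have hidxa : (N.subgroupOf K).index ∣ p ^ a := by
    rw [hidx, ← hφ]
    rcases hcd.1 φ with h | h
    · rw [h]; exact one_dvd _
    · rw [h]
  have hidxp : ∃ j : ℕ, (N.subgroupOf K).index = p ^ j := by
    obtain ⟨j, -, hj⟩ := (Nat.dvd_prime_pow hpp).1 hidxa
    exact ⟨j, hj⟩
  -- a character of `K` over `ψ`
  obtain ⟨ξ, hξi, hξo⟩ := H672.exists_over_subtype (N.subgroupOf K) hψ'i
  have hξ : (⟨ξ, hξi⟩ : IrrCharacter K) ∈ principalBlock M K :=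
    H112.HT.over_mem hM (N.subgroupOf K) hidxp hψ' ((H672.over_subtype_iff _ _ _).1 hξo)
  have hvξ : vd p ξ ≤ a := by
    obtain ⟨h1, h2⟩ := H672.charDegree_dvd_of_over (N.subgroupOf K) hξi hψ'i hξo
    obtain ⟨c, hc⟩ := h1
    have hpos := Blocks.Basic.charDegree_pos hψ'i
    rw [hc, Nat.mul_div_cancel_left _ hpos] at h2
    have h3 := h2.trans hidxa
    have hc0 : c ≠ 0 := by
      rintro rfl
      rw [mul_zero] at hc
      exact (Blocks.Basic.charDegree_pos hξi).ne' hc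
    unfold vd
    rw [hc, Nat.factorization_mul hpos.ne' hc0, Finsupp.add_apply, hdeg',
      Nat.factorization_eq_zero_of_not_dvd hdeg, zero_add]
    have h4 := (Nat.factorization_le_iff_dvd hc0 (pow_ne_zero a hpp.ne_zero)).2 h3 p
    rwa [hpp.factorization_pow, Finsupp.single_eq_same] at h4
  obtain ⟨χ, hχ, hv, hover⟩ := H362.HT.exists_over hM P K hPK ⟨ξ, hξi⟩ hξ
  have ho1 : H672.Over K.subtype (χ : A → ℂ) ξ := (H672.over_subtype_iff _ _ _).2 hover
  have ho2 : H672.Over (K.subtype.comp (N.subgroupOf K).subtype) (χ : A → ℂ) ((ψ : N → ℂ) ∘ e) :=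
    (H672.over_comp_iff K.subtype (N.subgroupOf K).subtype (Characters.Core.isIrr_isCharacter χ.2) hψ'i).2
      ⟨ξ, hξi, ho1, hξo⟩
  have ho : H672.Over N.subtype (χ : A → ℂ) (ψ : N → ℂ) := by
    refine (H672.over_comp_equiv N.subtype e (χ : A → ℂ) (ψ : N → ℂ)).1 ?_
    have h1 : N.subtype.comp e.toMonoidHom = K.subtype.comp (N.subgroupOf K).subtype := MonoidHom.ext he
    rw [h1]
    exact ho2
  refine ⟨χ, hχ, ?_, ?_, hv.trans hvξ⟩
  · -- `N` is not in the kernel
    by_contra hcon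
    push Not at hcon
    have h1 : classInner (fun n : N => (χ : A → ℂ) n) (ψ : N → ℂ) ≠ 0 := (H672.over_subtype_iff _ _ _).1 ho
    have h2 : (fun n : N => (χ : A → ℂ) n) = (χ : A → ℂ) 1 • (1 : N → ℂ) := by
      funext n
      rw [hcon n n.2]
      simp
    rw [h2, Characters.Core.classInner_smul_left] at h1
    have h3 : (1 : N → ℂ) = ψ := by
      by_contra hne
      exact h1 (by rw [Characters.Core.classInner_irr_ne Characters.Core.isIrr_one ψ.2 hne, mul_zero])
    obtain ⟨x, -, n, n', -, h4⟩ := hmv 1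
    rw [← h3] at h4
    exact h4 rfl
  · -- the height is positive
    rw [Nat.pos_iff_ne_zero]
    intro h0
    have hpos := Blocks.Basic.charDegree_pos χ.2
    have h1 : ¬ p ∣ charDegree (χ : A → ℂ) := by
      intro h
      have h2 := hpp.factorization_pos_of_dvd hpos.ne' h
      unfold vd at h0
      omega
    have h2 : (H672.inertia N (ψ : N → ℂ)).index ∣ charDegree (χ : A → ℂ) :=
      (dvd_mul_right _ _).trans (H672.index_mul_charDegree_dvd N χ.2 ψ.2 ho)
    obtain ⟨g, hg⟩ := exists_conj_mem P (fun h => h1 (h.trans h2))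
    obtain ⟨x, hx, n, n', hn, hne⟩ := hmv g
    apply hne
    have h3 := H672.mem_inertia_iff.1 (hg x hx) n
    exact (congrArg (ψ : N → ℂ) (Subtype.ext hn)).trans h3

end Cfsg.Agent.H352.HT
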